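import Cfsg.Agent.Comp.G25.Main
import Cfsg.Agent.Comp.MatP
import Cfsg.Agent.Comp.DCount

set_option autoImplicit false
set_option maxRecDepth 100000

namespace Cfsg.Agent.Comp.G25
open Cfsg.Agent.Comp Matrix

def uI : List Nat := [nat_lit 1, nat_lit 128, nat_lit 16384, nat_lit 2097152, nat_lit 268435456, nat_lit 34359738368, nat_lit 4398046511104]

abbrev uC : List Nat := uI

abbrev uO : List Nat := uI

def uen : Fin 7 → ℕ := Fin.val

theorem uenum : Enum (nat_lit 7) uen := enum_fin (by decide)

def ubs : List (Fin 7 → ZMod 5) := sbs (nat_lit 7) (nat_lit 7) uen 1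

theorem ums : MS (nat_lit 5) (nat_lit 7) (nat_lit 127) (nat_lit 7) uI uI uI ubs uen (1 : ZMod 5) :=
  uenum.msP (by decide +kernel) (by decide +kernel)

theorem ustd : Std (nat_lit 7) (nat_lit 7) ubs uen (1 : ZMod 5) := uenum.std (by decide) _

def U : List (List Nat) :=
  [[nat_lit 13331851133060, nat_lit 17730170323328, nat_lit 274792704, nat_lit 8830452793603, nat_lit 8864814612736, nat_lit 4501132083330, nat_lit 137439002628],
   [nat_lit 13228507693568, nat_lit 4535491805569, nat_lit 4501394161664, nat_lit 4502199517312, nat_lit 4433488396419, nat_lit 17696072712320, nat_lit 17592188141956],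
   [nat_lit 17695533695106, nat_lit 13194946969728, nat_lit 17695271567746, nat_lit 13297495589378, nat_lit 8865085194756, nat_lit 35167142402, nat_lit 8796898394244],
   [nat_lit 17661981392898, nat_lit 8796638331008, nat_lit 4466770198787, nat_lit 69801623808, nat_lit 103351910404, nat_lit 17627086864900, nat_lit 8796638347652],
   [nat_lit 4501662662658, nat_lit 4536567611780, nat_lit 13331582730752, nat_lit 17627627913348, nat_lit 1075904896, nat_lit 17696345309314, nat_lit 13262867415169],
   [nat_lit 4536297062531, nat_lit 8933806702979, nat_lit 8830459117696, nat_lit 103356088450, nat_lit 17730430370305, nat_lit 103353974916, nat_lit 8830459052417],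
   [nat_lit 4501666824323, nat_lit 13297493541122, nat_lit 4536297111684, nat_lit 4433217864196, nat_lit 8831264407683, nat_lit 4536030757120, nat_lit 137975890180],
   [nat_lit 4467038650880, nat_lit 8899447030273, nat_lit 8934339428738, nat_lit 4433486348672, nat_lit 8831262310788, nat_lit 17661983523075, nat_lit 13298298830852],
   [nat_lit 4536563417088, nat_lit 4535753949572, nat_lit 17729629258116, nat_lit 4398314979842, nat_lit 4467848184068, nat_lit 103620329984, nat_lit 35441934338],
   [nat_lit 4536563417088, nat_lit 4535753949572, nat_lit 17729629258116, nat_lit 4398314979842, nat_lit 4467848184068, nat_lit 103620329984, nat_lit 35441934338],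
   [nat_lit 4501662662658, nat_lit 4536567611780, nat_lit 13331582730752, nat_lit 17627627913348, nat_lit 1075904896, nat_lit 17696345309314, nat_lit 13262867415169],
   [nat_lit 4536297062531, nat_lit 8933806702979, nat_lit 8830459117696, nat_lit 103356088450, nat_lit 17730430370305, nat_lit 103353974916, nat_lit 8830459052417],
   [nat_lit 4467307069827, nat_lit 4433486282880, nat_lit 4501400469764, nat_lit 8899983835648, nat_lit 103085572354, nat_lit 17729895530624, nat_lit 103085523204],
   [nat_lit 4535762288768, nat_lit 13229044564482, nat_lit 8830723293696, nat_lit 4433486348548, nat_lit 4398315012097, nat_lit 8831262310531, nat_lit 13195213307908],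
   [nat_lit 16643, nat_lit 138248487300, nat_lit 69795315971, nat_lit 103353942530, nat_lit 17696343261316, nat_lit 8797166829698, nat_lit 17695273697284],
   [nat_lit 65924, nat_lit 138252681218, nat_lit 69797478528, nat_lit 138250567682, nat_lit 4501125791875, nat_lit 13298028314752, nat_lit 13229313032580],
   [nat_lit 17626822607233, nat_lit 8933534073220, nat_lit 4433486299136, nat_lit 138521133441, nat_lit 17661444505601, nat_lit 8830727520771, nat_lit 34628190337],
   [nat_lit 17695533760896, nat_lit 17730702983300, nat_lit 4399126577665, nat_lit 8865894678656, nat_lit 270549377, nat_lit 8899180626436, nat_lit 4432410460417],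
   [nat_lit 103349813378, nat_lit 13195215405569, nat_lit 17729627160833, nat_lit 8899711238528, nat_lit 4467573391361, nat_lit 4501664694273, nat_lit 35433545856],
   [nat_lit 69801624064, nat_lit 8796369895812, nat_lit 4432414687620, nat_lit 13263666462976, nat_lit 17696347389956, nat_lit 17730438692868, nat_lit 8933800428032]]

theorem Uok : MOK (nat_lit 5) (nat_lit 7) ubs uen U := ums.mok (by decide +kernel)

/-- the matrices of the letters -/
def Um : ℕ → Matrix (Fin 7) (Fin 7) (ZMod 5) := mat (nat_lit 7) ubs uen U

theorem Ufast : Um = fmat (nat_lit 7) (nat_lit 7) (nat_lit 7) (1 : ZMod 5) uen U := ustd.mat_eq _ _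

theorem satU7 : Sat Um R := ums.sat Uok (by decide +kernel)

theorem exists_mu : ∃ μ : G →* Matrix (Fin 7) (Fin 7) (ZMod 5), Function.Injective μ ∧
    ∀ x < 20, μ (s x) = Um x := by
  have hu := isUnit_of_sat satU7 (L := 20) (by decide +kernel)
  have := simple
  obtain ⟨e, he⟩ := pres.equiv_of_simple hR (glS Um) (sat_glS hu hR satU7) (x := 0) (by norm_num)
    (fun h => (show Um 0 ≠ 1 by rw [Ufast]; decide +kernel)
      (by rw [← glS_val (hu 0 (by norm_num)), h]; rfl))
  refine ⟨(Units.coeHom _).comp ((Subgroup.subtype _).comp e.toMonoidHom),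
    Units.val_injective.comp (Subtype.val_injective.comp e.injective), fun x hx => ?_⟩
  rw [← glS_val (hu x hx), ← he x hx]; rfl

/-- the faithful representation of degree seven -/
noncomputable def mu : G →* Matrix (Fin 7) (Fin 7) (ZMod 5) := exists_mu.choose

theorem mu_inj : Function.Injective mu := exists_mu.choose_spec.1

/-- a group element together with a code for its matrix -/
structure El where
  c : List Nat
  g : G
  ok : Good 5 7 ubs (mu g) c

/-- the identity -/
noncomputable def one : El := ⟨uI, 1, by rw [map_one]; exact ums.goodI⟩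

/-- a letter -/
noncomputable def lt (x : ℕ) (h : x < 20) : El :=
  ⟨nth [] U x, s x, by rw [mu, exists_mu.choose_spec.2 x h]; exact Uok x⟩

/-- the letters -/
noncomputable def TL : List El := [lt 0 (by decide), lt 1 (by decide), lt 2 (by decide), lt 3 (by decide), lt 4 (by decide), lt 5 (by decide), lt 6 (by decide), lt 7 (by decide), lt 8 (by decide), lt 9 (by decide), lt 10 (by decide), lt 11 (by decide), lt 12 (by decide), lt 13 (by decide), lt 14 (by decide), lt 15 (by decide), lt 16 (by decide), lt 17 (by decide), lt 18 (by decide), lt 19 (by decide)]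

/-- a word in a table -/
abbrev Seg := List El × List Nat

/-- a single element -/
abbrev o (c : El) : Seg := ([c], [0])

/-- the value of a word -/
noncomputable def sv (S : Seg) : G := ev (fun x => (nth one S.1 x).g) S.2

/-- the value of a product of words -/
noncomputable def val : List Seg → G
  | [] => 1
  | S :: A => sv S * val A

theorem sv_o (c : El) : sv (o c) = c.g := by simp [sv, nth_eq]

theorem val_append (A B : List Seg) : val (A ++ B) = val A * val B := by
  induction A with
  | nil => simp [val]
  | cons S A ih => simp [val, ih, mul_assoc]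

theorem sv_TL {w : List ℕ} (h : ∀ x ∈ w, x < 20) : sv (TL, w) = ev s w :=
  ev_congr fun x hx => by
    have := h x hx
    interval_cases x <;> rfl

noncomputable def app (c : List Nat) (v : Nat) : Nat := (appB (nat_lit 5) (nat_lit 7) (nat_lit 127) c).f v

noncomputable def runS (T : List El) (w : List Nat) (v : Nat) : Nat :=
  @List.rec Nat (fun _ => Nat) v (fun a _ ih => frcN ih (app (nth one T a).c)) w

noncomputable def run (A : List Seg) (v : Nat) : Nat :=
  @List.rec Seg (fun _ => Nat) v (fun S _ ih => frcN ih (runS S.1 S.2)) A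

theorem cd_runS (T : List El) (w : List ℕ) {v : ℕ} {x : Fin 7 → ZMod 5}
    (hv : Cd 7 (2 ^ 7 - 1) ubs v x) : Cd 7 (2 ^ 7 - 1) ubs (runS T w v) (mu (sv (T, w)) *ᵥ x) := by
  induction w with
  | nil => rw [sv, ev_nil, map_one, Matrix.one_mulVec]; exact hv
  | cons a w ih =>
    have e : runS T (a :: w) v = frcN (runS T w v) (app (nth one T a).c) := rfl
    rw [e, frcN_eq, sv, ev_cons, map_mul, ← Matrix.mulVec_mulVec]
    exact (nth one T a).ok _ _ ih

theorem cd_run (A : List Seg) {v : ℕ} {x : Fin 7 → ZMod 5}
    (hv : Cd 7 (2 ^ 7 - 1) ubs v x) : Cd 7 (2 ^ 7 - 1) ubs (run A v) (mu (val A) *ᵥ x) := by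
  induction A with
  | nil => rw [val, map_one, Matrix.one_mulVec]; exact hv
  | cons S A ih =>
    have e : run (S :: A) v = frcN (run A v) (runS S.1 S.2) := rfl
    rw [e, frcN_eq, val, map_mul, ← Matrix.mulVec_mulVec]
    exact cd_runS _ _ ih

/-- `r * A = B` -/
noncomputable def mulB (r : List Nat) (A B : List Seg) : Bool :=
  lall (fun c => frc (run A c) fun u => frc (app r u) fun u => frc (run B c) fun v =>
    Nat.beq (app uI u) (app uI v)) uI

theorem mulB_spec {r : List ℕ} {M : Matrix (Fin 7) (Fin 7) (ZMod 5)} (hr : Good 5 7 ubs M r)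
    {A B : List Seg} (h : mulB r A B = true) : M * mu (val A) = mu (val B) := by
  simp only [mulB, lall_eq, frc_eq] at h
  ext i j
  have h1 : Cd 7 _ ubs (app uI (app r _)) _ := ums.goodI _ _ (hr _ _ (cd_run A (ums.unit j)))
  have h2 : Cd 7 _ ubs (app uI _) _ := ums.goodI _ _ (cd_run B (ums.unit j))
  rw [Nat.eq_of_beq_eq_true (h _ (ums.hen j).2.2)] at h1
  have := congrFun (cd_fun h1 h2) i
  rw [Matrix.one_mulVec, Matrix.one_mulVec, Matrix.mulVec_mulVec] at this
  simpa [Matrix.mulVec_single_one] using this

/-- equality of two products -/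
noncomputable def eqS (A B : List Seg) : Bool :=
  lall (fun c => frc (run A c) fun u => frc (run B c) fun v => Nat.beq (app uI u) (app uI v)) uI

theorem eqS_spec {A B : List Seg} (h : eqS A B = true) : val A = val B := by
  simp only [eqS, lall_eq, frc_eq] at h
  apply mu_inj
  ext i j
  have h1 : Cd 7 _ ubs (app uI _) _ := ums.goodI _ _ (cd_run A (ums.unit j))
  have h2 : Cd 7 _ ubs (app uI _) _ := ums.goodI _ _ (cd_run B (ums.unit j))
  rw [Nat.eq_of_beq_eq_true (h _ (ums.hen j).2.2)] at h1
  have := congrFun (cd_fun h1 h2) i
  simpa [Matrix.mulVec_single_one] using this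

/-- the check of a new code -/
noncomputable def divB (r : List Nat) (A B : List Seg) : Bool :=
  band (rowsOK (nat_lit 5) (nat_lit 7) (nat_lit 127) (nat_lit 7) uI uI r) (mulB r A B)

/-- the element `B / A` -/
noncomputable def mkD (r : List Nat) (A B : List Seg) (h : divB r A B = true) : El :=
  ⟨r, val B * (val A)⁻¹, by
    rw [divB, band_eq] at h
    have g := ums.good_rows h.1
    have e := mulB_spec g h.2
    have : mu (val B * (val A)⁻¹) = matOf 7 ubs uen r := by
      rw [map_mul, ← e, mul_assoc, ← map_mul, mul_inv_cancel, map_one, mul_one]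
    rw [this]; exact g⟩

theorem mkD_s {r : List ℕ} {A B : List Seg} {h : divB r A B = true} :
    (mkD r A B h).g * val A = val B := inv_mul_cancel_right _ _

theorem mkD_TL {r w : List ℕ} {h : divB r [] [(TL, w)] = true} (hw : ltB 20 w = true) :
    (mkD r [] [(TL, w)] h).g = ev s w := by
  have := mkD_s (h := h)
  simpa [val, sv_TL (ltB_spec hw)] using this

end Cfsg.Agent.Comp.G25
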