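import Cfsg.Agent.Comp.G25.Cd
import Cfsg.Agent.Comp.DCent

/-!
Enumeration of small subgroups of `G₂(5)`.
-/

set_option autoImplicit false

namespace Cfsg.Agent.Comp.G25
open Cfsg.Agent.Comp Matrix

theorem appB_congr (p f : ℕ) (rows : List ℕ) {u v : ℕ}
    (h : ∀ j < rows.length, dig f u j % p = dig f v j % p) :
    (appB p f (2 ^ f - 1) rows).f u = (appB p f (2 ^ f - 1) rows).f v := by
  induction rows generalizing u v with
  | nil => rfl
  | cons r rows ih =>
    have e : ∀ u, (appB p f (2 ^ f - 1) (r :: rows)).f u =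
      ((u &&& (2 ^ f - 1)) % p) * r + (appB p f (2 ^ f - 1) rows).f (u >>> f) := fun _ => rfl
    have h0 := h 0 (by simp)
    simp only [dig, mul_zero, Nat.shiftRight_zero] at h0
    rw [e, e, Nat.and_two_pow_sub_one_eq_mod, Nat.and_two_pow_sub_one_eq_mod, h0, ih (v := v >>> f) fun j hj => by
      have := h (j + 1) (by simpa using hj)
      simpa only [dig, ← Nat.shiftRight_add, Nat.mul_succ, add_comm f] using this]

theorem dec_apply (u : ℕ) (i : Fin 7) : dec 7 ubs u i = (dig 7 u i : ZMod 5) := by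
  have e := congrFun (congrFun (ustd.matOf_eq 7 (List.replicate 7 u)) i) i
  have h : uen i < 7 := i.2
  simp only [matOf, fastMat, Matrix.of_apply, List.getD_replicate _ h] at e
  rw [e, if_neg (by omega), add_zero]; rfl

/-- normal form of the image of a vector -/
noncomputable def key (A : List Seg) (c : Nat) : Nat := frcN (run A c) (app uI)

theorem key_congr {A B : List Seg} {c : ℕ} {x : Fin 7 → ZMod 5} (hc : Cd 7 (2 ^ 7 - 1) ubs c x)
    (h : mu (val A) *ᵥ x = mu (val B) *ᵥ x) : key A c = key B c := by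
  rw [(cd_run A hc).eq_dec (by norm_num), (cd_run B hc).eq_dec (by norm_num)] at h
  rw [key, key, frcN_eq, frcN_eq]
  refine appB_congr 5 7 uI fun j hj => ?_
  have := congrFun h ⟨j, hj⟩
  rw [dec_apply, dec_apply] at this
  exact (ZMod.natCast_eq_natCast_iff' _ _ 5).mp this

theorem key_sound {A B : List Seg} {c : ℕ} {x : Fin 7 → ZMod 5} (hc : Cd 7 (2 ^ 7 - 1) ubs c x)
    (h : key A c = key B c) : mu (val A) *ᵥ x = mu (val B) *ᵥ x := by
  have h1 : Cd 7 _ ubs (app uI _) _ := ums.goodI _ _ (cd_run A hc)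
  have h2 : Cd 7 _ ubs (app uI _) _ := ums.goodI _ _ (cd_run B hc)
  rw [key, key, frcN_eq, frcN_eq] at h
  rw [h] at h1
  simpa using cd_fun h1 h2

theorem eqS_of {A B : List Seg} (h : val A = val B) : eqS A B = true := by
  simp only [eqS, lall_eq, frc_eq]
  intro c hc
  obtain ⟨j, rfl⟩ := (by decide +kernel : ∀ c ∈ uI, ∃ j : Fin 7, uI.getD (uen j) 0 = c) c hc
  have := key_congr (A := A) (B := B) (ums.unit j) (by rw [h])
  rw [key, key, frcN_eq, frcN_eq] at this
  rw [this]; exact Nat.beq_refl _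

theorem entry (A : List Seg) (i j : Fin 7) :
    mu (val A) i j = (dig 7 (run A (uI.getD (uen j) 0)) i : ZMod 5) := by
  rw [← dec_apply, ← (cd_run A (ums.unit j)).eq_dec (by norm_num)]
  simp [Matrix.mulVec_single_one]

/-- a diagonal entry -/
noncomputable def dg (A : List Seg) (k : Nat) : Nat :=
  Nat.land (Nat.shiftRight (run A (Nat.shiftLeft (nat_lit 1) k)) k) (nat_lit 127)

/-- the trace -/
noncomputable def trN (A : List Seg) : Nat :=
  Nat.mod (Nat.add (Nat.add (Nat.add (Nat.add (Nat.add (Nat.add (dg A (nat_lit 0)) (dg A (nat_lit 7)))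
    (dg A (nat_lit 14))) (dg A (nat_lit 21))) (dg A (nat_lit 28))) (dg A (nat_lit 35)))
    (dg A (nat_lit 42))) (nat_lit 5)

theorem trN_eq (A : List Seg) : trN A = (mu (val A)).trace.val := by
  have e : ∀ j : Fin 7, mu (val A) j j = (dg A (7 * j) : ZMod 5) := fun j => by
    rw [entry, dig, ← Nat.and_two_pow_sub_one_eq_mod,
      (by decide +kernel : ∀ j : Fin 7, uI.getD (uen j) 0 = Nat.shiftLeft 1 (7 * j)) j]; rfl
  simp only [Matrix.trace, Matrix.diag, Fin.sum_univ_seven, e]
  norm_cast

/-- powers -/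
def pw (A : List Seg) : ℕ → List Seg
  | 0 => []
  | k + 1 => A ++ pw A k

theorem val_pw (A : List Seg) (k : ℕ) : val (pw A k) = val A ^ k := by
  induction k with
  | zero => simp [pw, val]
  | succ k ih => rw [pw, val_append, ih, pow_succ']

/-- necessary conditions for conjugacy -/
noncomputable def cjB (τ k : Nat) (A : List Seg) : Bool :=
  band (Nat.beq (trN A) τ) (eqS (pw A k) [])

theorem cjB_of {τ k : ℕ} {A B : List Seg} (hB : cjB τ k B = true) (h : IsConj (val B) (val A)) :
    cjB τ k A = true := by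
  rw [cjB, band_eq] at hB ⊢
  obtain ⟨c, e⟩ := isConj_iff.mp h
  constructor
  · rw [← hB.1, trN_eq, trN_eq, ← e, map_mul, Matrix.trace_mul_comm, ← map_mul, inv_mul_cancel_left]
  · have := eqS_spec hB.2
    refine eqS_of ?_
    rw [val_pw] at this ⊢
    rw [← e, conj_pow, this]; simp [val]

/-- a list of new codes -/
noncomputable def mkL (l : List El) (rs : List (List Nat × List Nat))
    (h : lall (fun p => divB p.1 [] [(l, p.2)]) rs = true) : List El :=
  rs.pmap (fun p hp => mkD p.1 [] [(l, p.2)] hp) ((lall_eq _ _).mp h)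

theorem sv_mem {S : Subgroup G} {l : List El} (hl : ∀ c ∈ l, c.g ∈ S) (w : List ℕ) :
    sv (l, w) ∈ S :=
  ev_mem fun a _ => by
    rcases nth_mem one l a with e | e
    · rw [e]; exact S.one_mem
    · exact hl _ e

theorem mkL_mem {S : Subgroup G} {l : List El} (hl : ∀ c ∈ l, c.g ∈ S) {rs : List (List ℕ × List ℕ)}
    {h : lall (fun p => divB p.1 [] [(l, p.2)]) rs = true} : ∀ c ∈ mkL l rs h, c.g ∈ S := by
  intro c hc
  obtain ⟨p, hp, rfl⟩ := List.mem_pmap.mp hc
  have := mkD_s (h := (lall_eq _ _).mp h p hp)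
  simp only [val, mul_one] at this
  rw [this]; exact sv_mem hl _

/-- all products -/
def prodA (U V : List El) : List (List Seg) := U.flatMap fun a => V.map fun b => [o a, o b]

/-- the number of products with a property -/
def cnt (q : List Seg → Bool) (U V : List El) : ℕ := (prodA U V).countP q

theorem cnt_split (q : List Seg → Bool) (U V : List El) (n : ℕ) {a b : ℕ}
    (h1 : cnt q (U.take n) V = a) (h2 : cnt q (U.drop n) V = b) : cnt q U V = a + b := by
  rw [← h1, ← h2, cnt, cnt, cnt, ← List.countP_append, prodA, prodA, prodA, ← List.flatMap_append,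
    List.take_append_drop]

/-- the images of two vectors -/
noncomputable def key2 (c d : Nat) (A : List Seg) : Nat :=
  Nat.add (Nat.shiftLeft (key A c) (nat_lit 49)) (key A d)

/-- the code of a vector -/
def okV (c : Nat) : Bool := bnd 7 4 7 c

theorem okV_cd {c : ℕ} (h : okV c = true) : Cd 7 (2 ^ 7 - 1) ubs c (dec 7 ubs c) :=
  (cd_of_bnd (bs := ubs) h).mono (by norm_num)

theorem nodup_key2 {c d : ℕ} (hc : okV c = true) (hd : okV d = true) {L : List (List Seg)}
    (h : incB (L.map (key2 c d)) 0 = true) : (L.map val).Nodup := by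
  refine List.pairwise_map.mpr ((List.pairwise_map.mp (incB_spec h).1).imp fun {a b} hab e => hab ?_)
  rw [key2, key2, key_congr (B := b) (okV_cd hc) (by rw [e]),
    key_congr (B := b) (okV_cd hd) (by rw [e])]

/-- the products are distinct -/
noncomputable def enumB (c d e : Nat) (U V : List El) : Bool :=
  band (okV c && okV d && okV e) (band (incB (U.map fun a => key [o a] c) (nat_lit 0))
    (band (lall (fun b => Nat.beq (key [o b] c) (key [] c)) V)
      (incB ((V.map fun b => [o b]).map (key2 d e)) (nat_lit 0))))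

theorem enum_le {S : Subgroup G} {U V : List El} (hU : ∀ a ∈ U, a.g ∈ S) (hV : ∀ a ∈ V, a.g ∈ S)
    {c d e : ℕ} (h : enumB c d e U V = true) (hc : Nat.card S ≤ U.length * V.length)
    {τ k : ℕ} {B : List Seg} (hB : cjB τ k B = true) :
    {y ∈ (S : Set G) | IsConj (val B) y}.ncard ≤ cnt (cjB τ k) U V := by
  have := card.1
  simp only [enumB, band_eq, lall_eq, Bool.and_eq_true] at h
  obtain ⟨⟨⟨c1, c2⟩, c3⟩, h1, h2, h3⟩ := h
  let F : Subgroup G :=
    { carrier := {g | mu g *ᵥ dec 7 ubs c = dec 7 ubs c}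
      one_mem' := by simp
      mul_mem' := fun {a b} (ha : _ = _) (hb : _ = _) => by
        change _ = _
        rw [map_mul, ← Matrix.mulVec_mulVec, hb, ha]
      inv_mem' := fun {a} (ha : _ = _) => by
        change _ = _
        nth_rewrite 1 [← ha]
        rw [Matrix.mulVec_mulVec, ← map_mul]; simp }
  have e1 : ∀ a : El, val [o a] = a.g := fun a => by simp [val, sv_o]
  have n := nodup_mul (fun g => mu g *ᵥ dec 7 ubs c) (S := F) (U := U.map El.g) (V := V.map El.g)
    (fun g s (hs : _ = _) => by simp only [map_mul, ← Matrix.mulVec_mulVec, hs])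
    (by
      rw [List.map_map]
      refine List.pairwise_map.mpr ((List.pairwise_map.mp (incB_spec h1).1).imp fun {a b} hab e => hab ?_)
      exact key_congr (okV_cd c1) (by rw [e1, e1]; exact e))
    (fun v hv => by
      obtain ⟨b, hb, rfl⟩ := List.mem_map.mp hv
      have := key_sound (okV_cd c1) (Nat.eq_of_beq_eq_true (h2 b hb))
      rw [e1] at this
      change _ = _
      simpa [val] using this)
    (by simpa [List.map_map, Function.comp_def, e1] using nodup_key2 c2 c3 h3)
  refine count_le n (fun g hg => ?_) (by simpa [List.length_flatMap, Function.comp_def] using hc) (prodA U V) val ?_ _ _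
    fun A hA => cjB_of hB hA
  · simp only [List.mem_flatMap, List.mem_map] at hg
    obtain ⟨_, ⟨a, ha, rfl⟩, _, ⟨b, hb, rfl⟩, rfl⟩ := hg
    exact S.mul_mem (hU a ha) (hV b hb)
  · simp [prodA, List.map_flatMap, List.flatMap_map, Function.comp_def, val, sv_o]

theorem sv_inv {T : List El} (h : ∀ x, (nth one T x).g * (nth one T (x ^^^ 1)).g = 1) (w : List ℕ) :
    sv (T, w.reverse.map (· ^^^ 1)) = (sv (T, w))⁻¹ := by
  induction w with
  | nil => simp [sv]
  | cons x w ih =>
    simp only [sv, List.reverse_cons, List.map_append, ev_append, ev_cons, _root_.mul_inv_rev] at ih ⊢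
    rw [ih]
    simp [eq_inv_of_mul_eq_one_right (h x)]

/-- a conjugate -/
def cjA (T TT : List El) (p : List Nat × Nat) : List Seg :=
  [(T, p.1), (TT, [p.2]), (T, p.1.reverse.map (· ^^^ 1))]

theorem conj_ge {S : Subgroup G} {T TT : List El} (hT : ∀ a ∈ T, a.g ∈ S) (hTT : ∀ a ∈ TT, a.g ∈ S)
    (h : ∀ x, (nth one T x).g * (nth one T (x ^^^ 1)).g = 1) {t : G} (ht : ∀ a ∈ TT, IsConj t a.g)
    {c d : ℕ} {L : List (List ℕ × ℕ)} (hc : band (okV c && okV d && L.all (·.2 < TT.length))
      (incB ((L.map (cjA T TT)).map (key2 c d)) (nat_lit 0)) = true) :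
    L.length ≤ {y ∈ (S : Set G) | IsConj t y}.ncard := by
  have := card.1
  simp only [band_eq, Bool.and_eq_true, List.all_eq_true, decide_eq_true_eq] at hc
  have := le_ncard_of_nodup (S := {y ∈ (S : Set G) | IsConj t y}) (nodup_key2 hc.1.1.1 hc.1.1.2 hc.2)
    fun g hg => by
      simp only [List.mem_map] at hg
      obtain ⟨_, ⟨p, hp, rfl⟩, rfl⟩ := hg
      have m : nth one TT p.2 ∈ TT := by
        rw [nth_eq, List.getD_eq_getElem _ _ (hc.1.2 p hp)]; exact List.getElem_mem _
      simp only [cjA, val, mul_one, sv_inv h]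
      refine ⟨S.mul_mem (sv_mem hT _) (S.mul_mem (sv_mem hTT _) (S.inv_mem (sv_mem hT _))), ?_⟩
      refine (ht _ m).trans (isConj_iff.mpr ⟨sv (T, p.1), ?_⟩)
      simp [sv, mul_assoc]
  simpa using this

end Cfsg.Agent.Comp.G25
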