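import Cfsg.Agent.Comp.G25.Up
import Cfsg.Agent.Comp.G25.Nets

set_option autoImplicit false
set_option maxRecDepth 100000

namespace Cfsg.Agent.Comp.G25
open Cfsg.Agent.Comp

def W0 : List (List Nat) := [[0],
[1],
[2],
[3],
[4],
[5],
[10],
[11],
[12],
[13],
[14],
[15],
[16],
[17],
[18],
[19]]

noncomputable def phi : G →* Equiv.Perm ℕ := (pres.rep ok sat).choose

theorem rep : Rep s 20 3906 T phi := (pres.rep ok sat).choose_spec

theorem trans : ∀ i < 3906, ∃ g, phi g 0 = i :=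
  rep.trans (sch := [6, 8, 12, 0, 6, 4, 8, 16, 0, 14, 6, 12, 4, 8, 2, 18, 0]) (by decide +kernel)

theorem stab : (genW s W0).index = 3906 ∧ ∀ g, g ∈ genW s W0 ↔ phi g 0 = 0 :=
  rep.stab_eq (by decide +kernel) (by norm_num) trans (by decide +kernel) (Top.index _ s pres.sat)

theorem orb1 : MulAction.orbit (genW (sig T) W0) 1 = Set.Ico 1 (1 + 30) ∧
    (MulAction.orbit (genW (sig T) W0) 1).ncard = 30 :=
  orbit_ivl (sch := [0, 2, 4, 0, 2, 0, 4, 0, 10]) ok (by norm_num) (by norm_num) (by decide +kernel) (by decide +kernel)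

theorem orb31 : MulAction.orbit (genW (sig T) W0) 31 = Set.Ico 31 (31 + 750) ∧
    (MulAction.orbit (genW (sig T) W0) 31).ncard = 750 :=
  orbit_ivl (sch := [0, 2, 4, 8, 14, 0, 2, 10, 0, 2, 4, 0, 2, 0]) ok (by norm_num) (by norm_num) (by decide +kernel) (by decide +kernel)

theorem orb781 : MulAction.orbit (genW (sig T) W0) 781 = Set.Ico 781 (781 + 3125) ∧
    (MulAction.orbit (genW (sig T) W0) 781).ncard = 3125 :=
  orbit_ivl (sch := [4, 8, 10, 12, 14, 0, 4, 12, 0, 2, 10, 8, 0, 12, 2, 0]) ok (by norm_num) (by norm_num) (by decide +kernel) (by decide +kernel)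

namespace Col

noncomputable def t0 : Tr := (Tr.leaf (nat_lit 0xfffffffffffffffffffffffffffffffffffffffffffffffffffffffffffffff000fffffffffffffffffffffffffffffffffffffffffffffffffffffffffffffff991111ffffffffffffffffff011fffffffffffffffffffffffffffffffffffffff8b1131ffffffffffffffffffffffff11b0310b50d5fffffffff011ffffff0f5095891151ffffffffffffffffffffffff031fffffffffffffff011fffffffffffffff8512d7fffffffffffffff19affffffffffffffffffffffffffffff011fffffffff630311fffffffff010fffffffff1d9ffffffffffffffffffffffffffffffffffff610297ffffff010fffffffffffffffffffffffffffffffffffffffffffffffffff5f02f0ffffff2b0ffffff010fffffffff2772191f9fffffffff257ffffff1d92395d0310ffffffffffff010fffffffffffffffffffffffffffffffffffffffffffff5b0150fffffffffffffffffffff010ffffffffffffffffffffffffffffffffffff590170ffffffffffffffffff010fffffffffffffffffffffffffffffffffffffff4b00d0ffffffffffffffffffffffff0b2030fffffffffffffff010ffffffffffff4900f0ffffffffffffffffffffffff030fff05d07dffffff010fffffffff09d03d410330fff191fffffffffffffff131fff171050030fffffffff171ffffff010070000fff1d01f03703503303501901b01301503903b04104301101303f03d0350370))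

noncomputable def T : Tr := t0

def RT : List (List (List Nat)) := [
  [[nat_lit 9],
   [nat_lit 4, nat_lit 0, nat_lit 13],
   [nat_lit 5, nat_lit 0, nat_lit 12]],
  [[nat_lit 8],
   [nat_lit 14, nat_lit 0, nat_lit 0, nat_lit 0, nat_lit 8, nat_lit 12, nat_lit 8, nat_lit 13, nat_lit 8, nat_lit 12, nat_lit 17],
   [nat_lit 1]],
  [[nat_lit 8, nat_lit 10, nat_lit 15, nat_lit 17, nat_lit 17, nat_lit 9]],
  [],
  [[nat_lit 0, nat_lit 12, nat_lit 1],
   [nat_lit 4]],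
  [[nat_lit 5]],
  [],
  [[nat_lit 9, nat_lit 3, nat_lit 12, nat_lit 1, nat_lit 9, nat_lit 1, nat_lit 9, nat_lit 1, nat_lit 18, nat_lit 16, nat_lit 10, nat_lit 2, nat_lit 0, nat_lit 3, nat_lit 3, nat_lit 1]],
  [[nat_lit 1],
   [nat_lit 9]],
  [[nat_lit 8],
   [nat_lit 0]],
  [[nat_lit 4],
   [nat_lit 10]],
  [[nat_lit 5],
   [nat_lit 1, nat_lit 12, nat_lit 0, nat_lit 10],
   [nat_lit 10, nat_lit 1, nat_lit 12, nat_lit 0]],
  [[nat_lit 12],
   [nat_lit 16, nat_lit 12, nat_lit 17]],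
  [[nat_lit 13]],
  [[nat_lit 3, nat_lit 4, nat_lit 2]],
  [[nat_lit 15]],
  [[nat_lit 16]],
  [[nat_lit 17]],
  [[nat_lit 11, nat_lit 13, nat_lit 10, nat_lit 12]],
  [[nat_lit 13, nat_lit 11, nat_lit 12, nat_lit 10]],
  [[nat_lit 11, nat_lit 11, nat_lit 11, nat_lit 11, nat_lit 11],
   [nat_lit 1, nat_lit 0],
   [nat_lit 13, nat_lit 12],
   [nat_lit 5, nat_lit 4],
   [nat_lit 17, nat_lit 9, nat_lit 19, nat_lit 8, nat_lit 10, nat_lit 15, nat_lit 10],
   [nat_lit 3, nat_lit 8, nat_lit 10, nat_lit 15, nat_lit 17, nat_lit 17, nat_lit 9],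
   [nat_lit 15, nat_lit 14],
   [nat_lit 16, nat_lit 17]]]

def HT : List (List (Nat × Nat × Nat)) := [
  [(1, 0, 0), (1, 27, 1), (0, 27, 2)],
  [(0, 0, 1), (0, 58, 8), (0, 1, 1)],
  [(1, 56, 6)],
  [],
  [(0, 27, 3), (0, 5, 0)],
  [(0, 5, 1)],
  [],
  [(0, 59, 1)],
  [(1, 0, 1), (1, 50, 0)],
  [(0, 50, 0), (0, 0, 0)],
  [(1, 26, 0), (0, 11, 0)],
  [(0, 26, 1), (0, 42, 0), (0, 42, 4)],
  [(0, 13, 0), (1, 40, 2)],
  [(0, 13, 1)],
  [(1, 28, 0)],
  [(0, 15, 1)],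
  [(0, 17, 0)],
  [(0, 17, 1)],
  [(1, 30, 0)],
  [(0, 30, 1)],
  [(1, 31, 0), (0, 1, 1), (0, 13, 1), (0, 5, 1), (1, 54, 3), (1, 56, 5), (0, 15, 1), (0, 17, 0)]]

def R : List (List Nat) :=
  [[0, 8],
   [0, 1],
   [1, 0],
   [2, 3],
   [3, 2],
   [4, 5],
   [5, 4],
   [6, 7],
   [7, 6],
   [8, 9],
   [9, 8],
   [10, 11],
   [11, 10],
   [12, 13],
   [13, 12],
   [14, 15],
   [15, 14],
   [16, 17],
   [17, 16],
   [18, 19],
   [19, 18],
   [0, 0, 0, 0, 0, 0, 0, 0],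
   [2, 2, 2, 2, 2],
   [0, 2, 0, 2, 0, 2, 0, 2],
   [1, 1, 3, 0, 0, 2],
   [1, 3, 0, 2, 1, 3, 0, 2, 1, 3, 0, 2],
   [10, 5],
   [12, 1, 5, 0],
   [14, 3, 5, 2],
   [16, 2, 5, 3],
   [18, 13, 11, 12, 10],
   [10, 10, 10, 10, 10],
   [18, 18, 18, 18, 18],
   [11, 19, 10, 18],
   [13, 19, 12, 18],
   [15, 19, 14, 18],
   [17, 19, 16, 18],
   [11, 15, 10, 14, 18, 18],
   [11, 17, 10, 16, 19, 19],
   [13, 15, 12, 14, 18],
   [13, 17, 12, 16],
   [15, 17, 14, 16, 18],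
   [1, 12, 0, 10, 10],
   [1, 14, 0, 17, 11, 14, 14],
   [1, 16, 0, 17, 11, 17, 14, 12, 11],
   [1, 18, 0, 19, 19],
   [3, 12, 2, 16, 10, 16, 15, 13],
   [3, 14, 2, 14, 14, 17, 11, 11],
   [3, 18, 2, 19],
   [8, 7, 11, 7, 2, 1, 3, 11, 7, 1, 11, 0, 11, 1, 10, 0, 2, 2],
   [8, 8],
   [9, 10, 8, 10, 3, 15, 3],
   [9, 14, 8, 0, 16, 10, 13, 1, 3, 3],
   [9, 16, 8, 17, 14, 3, 3],
   [9, 18, 8, 16, 11, 14, 11],
   [8, 0, 0, 8, 16, 19, 11, 1, 2, 1, 3, 3, 1],
   [9, 2, 8, 16, 16, 14, 11],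
   [8, 0, 2, 2, 0, 3, 0, 8, 16, 19, 11, 1, 1],
   [8, 12, 8, 13, 8, 12, 17, 0, 14, 0, 0, 0],
   [6, 9, 3, 12, 1, 9, 1, 9, 1, 18, 16, 10, 2, 0, 3, 3, 1],
   [6, 6, 1, 1, 1, 1],
   [3, 7, 2, 6],
   [7, 0, 6, 1, 1, 1],
   [6, 18, 6, 18, 6, 18, 6, 18, 6, 18],
   [6, 18, 6, 19, 6, 18, 1, 1]]

def W : List (List Nat) := []

noncomputable def P : Par := ⟨T, (nat_lit 4), (nat_lit 15), (nat_lit 264), (nat_lit 12), (nat_lit 4095), (nat_lit 5), (nat_lit 31), (nat_lit 20), (nat_lit 17), (nat_lit 32), (nat_lit 0x2b494e1173d8d52d0931c8510c01), RT⟩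

noncomputable def J0 : List Nat := [
  nat_lit 0x470022c48009600418810181014c0083102d801062678e006188010250820bb8008710410489dc0043882f60020c4104104108d180103104be670047c7b46000cb12041061041330481041041041049e0019e208208308208208252bb460010b104104104104109c000a1882082082082082082083082082082095c0032c4104104104104104106104104104104790018e20820820820820820820820c20820825f000db12cc11a304623001638820de00030c41041222041061041318010620823ab58023620820820820820820820820820c20825e08d180074c4104104104104104107300018e20820c20820c66f0018e20820c2082082082082083a8000c3104104106f662f0000eb882082083082082082408208208208273000cf1ac0006389020c208209996e8c00083882082082082087200050c4104104104104104104184104104106332800c71041041041041041041041041041041041041041041041041041041041041041]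

theorem c0 : chk T (nat_lit 4) (nat_lit 15) (nat_lit 264) (nat_lit 12) (nat_lit 4095) (nat_lit 5) (nat_lit 31) (nat_lit 20) (nat_lit 17) (nat_lit 32) (nat_lit 0x2b494e1173d8d52d0931c8510c01) (nat_lit 4) (nat_lit 15) RT (nat_lit 16) J0 (nat_lit 16) = true := by
  decide +kernel

theorem r0 : P.RowsOK 16 32 := chk_sound P _ _ _ J0 _ _ (by decide +kernel) c0

theorem index.{u} : IndexLe.{u} 20 R W 1 :=
  indexLe_of_cert P HT (by decide +kernel)
    (show P.RowsOK 16 32 from r0)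

end Col

theorem card : Finite G ∧ Nat.card G = 5859000000 ∧ Function.Injective phi :=
  rep.card_eq up low

def primT : List (List Nat × List Nat) :=
  [([8], [0, 1, 0, 3, 5, 1, 0, 5, 9, 3, 1, 13, 0, 1, 5, 9, 3, 1, 5, 0]),
   ([6, 8], [0, 1, 3, 5, 9, 15, 1, 3, 11, 1, 3, 0, 15, 1, 9, 15, 5, 0, 1]),
   ([6], [0, 5, 9, 11, 13, 15, 0, 1, 5, 11, 13, 0, 9, 3, 1, 5, 1])]

theorem prim_0 : Nat.beq (grow T ([8] :: W0) [0, 1, 0, 3, 5, 1, 0, 5, 9, 3, 1, 13, 0, 1, 5, 9, 3, 1, 5, 0] (pt (nat_lit 0))) (ivl (nat_lit 0) (nat_lit 3906)) = true := by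
  decide +kernel

theorem prim_1 : Nat.beq (grow T ([6, 8] :: W0) [0, 1, 3, 5, 9, 15, 1, 3, 11, 1, 3, 0, 15, 1, 9, 15, 5, 0, 1] (pt (nat_lit 0))) (ivl (nat_lit 0) (nat_lit 3906)) = true := by
  decide +kernel

theorem prim_2 : Nat.beq (grow T ([6] :: W0) [0, 5, 9, 11, 13, 15, 0, 1, 5, 11, 13, 0, 9, 3, 1, 5, 1] (pt (nat_lit 0))) (ivl (nat_lit 0) (nat_lit 3906)) = true := by
  decide +kernel

theorem prim : Prim (gen (sig T) 20) 0 :=
  prim_of_cert (W := W0) (ts := primT) (sch := [8, 0, 4, 2, 12, 14, 0, 2, 10, 8, 0, 12, 2, 0, 12, 0]) ok (ok.genW_le _) (by norm_num) (genW_le_gen (by decide +kernel)) (by decide +kernel)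
    (fun t ht => ev_mem fun x hx => letter_mem_gen ((by decide +kernel : ∀ t ∈ primT, ∀ x ∈ t.1, x < 20) t ht x hx)) (by decide +kernel)
    (by simp only [primT, List.forall_mem_cons]; exact ⟨prim_0, prim_1, prim_2, by simp⟩)

def XP : List (List Nat) := [[0, 8, 0, 8, 0, 8, 0, 8, 0, 8, 0, 8, 0, 8, 0, 8, 0, 8, 0, 8, 0, 8, 0, 8, 0, 8, 0, 8, 0, 8, 0, 8, 0, 8, 0, 8, 0, 8, 0, 8, 0, 8, 0, 8, 0, 8, 0, 8, 0, 8, 0, 8, 0, 8, 0, 8, 0, 8, 0, 8, 0, 8]]

theorem satX : Sat (sig T) XP :=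
  sat_of_relsP ok (by norm_num) (show relsP (nat_lit 3906) (nat_lit 12) (nat_lit 0) (nat_lit 12) T XP = true by decide +kernel)

theorem simple : IsSimpleGroup G :=
  rep.simple (m := 1500000) (p := 31) (X := [[0, 8]]) card.2.2 (by norm_num) (by norm_num) trans prim card.2.1 (by norm_num) pres.sat
    Col.index (by decide +kernel) (by decide +kernel) (satX.mono (by decide +kernel))


end Cfsg.Agent.Comp.G25
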