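import Cfsg.Agent.Comp.Extra

set_option autoImplicit false
set_option maxRecDepth 100000

namespace Cfsg.Agent.Comp.G25
open Cfsg.Agent.Comp

def R : List (List Nat) :=
  [[0, 1],
   [1, 0],
   [2, 3],
   [3, 2],
   [4, 5],
   [5, 4],
   [6, 7],
   [7, 6],
   [8, 9],
   [9, 8],
   [10, 11],
   [11, 10],
   [12, 13],
   [13, 12],
   [14, 15],
   [15, 14],
   [16, 17],
   [17, 16],
   [18, 19],
   [19, 18],
   [0, 0, 0, 0, 0, 0, 0, 0],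
   [2, 2, 2, 2, 2],
   [0, 2, 0, 2, 0, 2, 0, 2],
   [1, 1, 3, 0, 0, 2],
   [1, 3, 0, 2, 1, 3, 0, 2, 1, 3, 0, 2],
   [10, 5],
   [12, 1, 5, 0],
   [14, 3, 5, 2],
   [16, 2, 5, 3],
   [18, 13, 11, 12, 10],
   [10, 10, 10, 10, 10],
   [18, 18, 18, 18, 18],
   [11, 19, 10, 18],
   [13, 19, 12, 18],
   [15, 19, 14, 18],
   [17, 19, 16, 18],
   [11, 15, 10, 14, 18, 18],
   [11, 17, 10, 16, 19, 19],
   [13, 15, 12, 14, 18],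
   [13, 17, 12, 16],
   [15, 17, 14, 16, 18],
   [1, 12, 0, 10, 10],
   [1, 14, 0, 17, 11, 14, 14],
   [1, 16, 0, 17, 11, 17, 14, 12, 11],
   [1, 18, 0, 19, 19],
   [3, 12, 2, 16, 10, 16, 15, 13],
   [3, 14, 2, 14, 14, 17, 11, 11],
   [3, 18, 2, 19],
   [8, 7, 11, 7, 2, 1, 3, 11, 7, 1, 11, 0, 11, 1, 10, 0, 2, 2],
   [8, 8],
   [9, 10, 8, 10, 3, 15, 3],
   [9, 14, 8, 0, 16, 10, 13, 1, 3, 3],
   [9, 16, 8, 17, 14, 3, 3],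
   [9, 18, 8, 16, 11, 14, 11],
   [8, 0, 0, 8, 16, 19, 11, 1, 2, 1, 3, 3, 1],
   [9, 2, 8, 16, 16, 14, 11],
   [8, 0, 2, 2, 0, 3, 0, 8, 16, 19, 11, 1, 1],
   [8, 12, 8, 13, 8, 12, 17, 0, 14, 0, 0, 0],
   [6, 9, 3, 12, 1, 9, 1, 9, 1, 18, 16, 10, 2, 0, 3, 3, 1],
   [6, 6, 1, 1, 1, 1],
   [3, 7, 2, 6],
   [7, 0, 6, 1, 1, 1],
   [6, 18, 6, 18, 6, 18, 6, 18, 6, 18],
   [6, 18, 6, 19, 6, 18, 1, 1]]

def iv : Nat := 877951429750140126432060928756737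

/-- the presented group -/
abbrev G : Type := Pres 20 R

/-- the letters -/
def s : ℕ → G := presS 20 R

theorem hR : ∀ w ∈ R, ∀ x ∈ w, x < 20 := by decide +kernel

theorem pres : IsPres s 20 R := isPres_pres hR

end Cfsg.Agent.Comp.G25
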