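import Cfsg.Agent.Comp.G25.Pres
import Cfsg.Agent.Comp.G25.Top
import Cfsg.Agent.Comp.G25.Tk0

set_option autoImplicit false
set_option maxRecDepth 100000

namespace Cfsg.Agent.Comp.G25
open Cfsg.Agent.Comp

namespace Tk2

noncomputable def t0 : Tr := (Tr.leaf (nat_lit 0x7fffffffff0007fffffffff0007fffffffff0007fffffffff0007fffffffff0007fffffffff0007fffffffff0007fffffffff80afffc02a05661a7ffc0ee014609fffc0260374197ffc06c012408fffc0220352187ffc0680102087ffc0200330007ffc064031))

noncomputable def T : Tr := t0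

def RT : List (List (List Nat)) := [
  [[nat_lit 1, nat_lit 1, nat_lit 1, nat_lit 1, nat_lit 1, nat_lit 1, nat_lit 1]],
  [],
  []]

def HT : List (List (Nat × Nat × Nat)) := [
  [(1, 2, 0)],
  [],
  []]

def R : List (List Nat) :=
  [[0, 1],
   [1, 0],
   [0, 0, 0, 0, 0, 0, 0, 0]]

def W : List (List Nat) := []

noncomputable def P : Par := ⟨T, (nat_lit 4), (nat_lit 15), (nat_lit 52), (nat_lit 13), (nat_lit 8191), (nat_lit 5), (nat_lit 31), (nat_lit 2), (nat_lit 24), (nat_lit 32), (nat_lit 0x18801), RT⟩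

noncomputable def J0 : List Nat := [
  nat_lit 0x491904919049190691111111111111111111111111]

theorem c0 : chk T (nat_lit 4) (nat_lit 15) (nat_lit 52) (nat_lit 13) (nat_lit 8191) (nat_lit 5) (nat_lit 31) (nat_lit 2) (nat_lit 24) (nat_lit 32) (nat_lit 0x18801) (nat_lit 2) (nat_lit 3) RT (nat_lit 16) J0 (nat_lit 16) = true := by
  decide +kernel

theorem r0 : P.RowsOK 16 32 := chk_sound P _ _ _ J0 _ _ (by decide +kernel) c0

theorem index.{u} : IndexLe.{u} 2 R W 8 :=
  indexLe_of_cert P HT (by decide +kernel)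
    (show P.RowsOK 16 32 from r0)

end Tk2

theorem upK_2 : CardLe (genW s [[0], [1]]) 8 :=
  CardLe.tc (V' := []) (n := 8) (m := 1) [0, 1] Tk2.index pres.sat (by decide +kernel) (by decide +kernel) (by decide +kernel) (cardLe_nil s)

namespace Tk1

noncomputable def t0 : Tr := (Tr.node (nat_lit 1) (Tr.node (nat_lit 0) (Tr.leaf (nat_lit 0x4198ffff011d001802aa00aa4018ffff00a900a8001801984117ffff0017019f032700a73016ffff00a600a5001601963195ffff00a40015019703173115ffff001500a3022200a23014ffff00a100a0001401943193ffff009f0013021e009e3113ffff0013009d029b021b2192ffff01140012021c009c2012ffff009b009a001201122111ffff00110196021900992011ffff00980097001101111190ffff00960010019500951110ffff00100094019300930000ffff0092009101100090))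
(Tr.leaf (nat_lit 0x51a2ffff00be002202af022f5122ffff002200bd042602a651a1ffff012b0021082d08ad5021ffff03b200bc002102215120ffff002001ad04bb00bb501fffff00ba00b9001f021f519effff00b8001e022003a0511effff001e00b702a80228501dffff00b600b5001d029d419cffff00b4001c032e03ae411cffff001c00b302b200b2419bffff0123001b033100b1411affff001a01a402b000b0401affff00af00ae001a019a4199ffff00ad001902ac00ac4119ffff001900ab032902a9)))
(Tr.node (nat_lit 2) (Tr.leaf (nat_lit 0x6130ffff0030083a04be033e61afffff013d002f03bf043f612effff002e01be04c800c8612cffff002c064603c00440602bffff074000c7002b042b61aaffff08bf002a02b70437612affff002a0730034600c661a9ffff0137002904c500c56128ffff002801b803ba033a61a7ffff08c3002704c204426127ffff002700c404c1044151a6ffff0133002604c300c35125ffff002501b408b309335025ffff00c2032c002502255024ffff00c100c0002402a45023ffff07b900bf00230223))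
(Tr.leaf (nat_lit 0xffffffffffffffffffff0000ffffffffffffffffffff0000ffffffffffffffffffff0000ffffffffffffffffffff9149ffff00490a4a0bcb0b4b81c5ffff0acb004504c705478044ffff09c800cb004405c4703dffff08c50a49003d043d713bffff003b07c105ca054a7039ffff06bc0542003902b97038ffff00ca0948003804387135ffff00350943064900c96034ffff08c408360034043461b2ffff05c6003203b6043661b1ffff0847003103b505356131ffff003107bb03bc033c))))

noncomputable def T : Tr := t0

def RT : List (List (List Nat)) := [
  [[nat_lit 5],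
   [nat_lit 1, nat_lit 3, nat_lit 0, nat_lit 0, nat_lit 2],
   [nat_lit 1, nat_lit 2, nat_lit 0, nat_lit 0, nat_lit 3],
   [nat_lit 3, nat_lit 1, nat_lit 3, nat_lit 1, nat_lit 3, nat_lit 1, nat_lit 3],
   [nat_lit 2, nat_lit 0, nat_lit 0, nat_lit 3, nat_lit 1],
   [nat_lit 3, nat_lit 0, nat_lit 2, nat_lit 1, nat_lit 3, nat_lit 0, nat_lit 2, nat_lit 1, nat_lit 3, nat_lit 0, nat_lit 2],
   [nat_lit 2, nat_lit 0, nat_lit 3, nat_lit 1, nat_lit 2, nat_lit 0, nat_lit 3, nat_lit 1, nat_lit 2, nat_lit 0, nat_lit 3]],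
  [[nat_lit 2, nat_lit 0, nat_lit 2, nat_lit 0, nat_lit 2, nat_lit 0, nat_lit 2],
   [nat_lit 0, nat_lit 2, nat_lit 1, nat_lit 1, nat_lit 3],
   [nat_lit 3, nat_lit 1, nat_lit 1, nat_lit 2, nat_lit 0],
   [nat_lit 2, nat_lit 1, nat_lit 3, nat_lit 0, nat_lit 2, nat_lit 1, nat_lit 3, nat_lit 0, nat_lit 2, nat_lit 1, nat_lit 3]],
  [[nat_lit 1, nat_lit 3, nat_lit 1, nat_lit 3, nat_lit 1, nat_lit 3, nat_lit 1],
   [nat_lit 3, nat_lit 3, nat_lit 3, nat_lit 3],
   [nat_lit 0, nat_lit 2, nat_lit 1, nat_lit 3, nat_lit 0, nat_lit 2, nat_lit 1, nat_lit 3, nat_lit 0, nat_lit 2, nat_lit 1]],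
  [[nat_lit 2, nat_lit 2, nat_lit 2, nat_lit 2],
   [nat_lit 0, nat_lit 2, nat_lit 0, nat_lit 2, nat_lit 0, nat_lit 2, nat_lit 0],
   [nat_lit 0, nat_lit 3, nat_lit 1, nat_lit 2, nat_lit 0, nat_lit 3, nat_lit 1, nat_lit 2, nat_lit 0, nat_lit 3, nat_lit 1]],
  []]

def HT : List (List (Nat × Nat × Nat)) := [
  [(2, 0, 0), (0, 7, 1), (1, 7, 2), (1, 6, 0), (1, 7, 3), (0, 8, 1), (1, 8, 2)],
  [(0, 6, 1), (0, 7, 4), (1, 7, 0), (0, 8, 3)],
  [(1, 6, 1), (1, 5, 0), (0, 8, 2)],
  [(0, 5, 0), (0, 6, 0), (1, 8, 3)],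
  []]

def R : List (List Nat) :=
  [[0, 1],
   [1, 0],
   [2, 3],
   [3, 2],
   [0, 0, 0, 0, 0, 0, 0, 0],
   [2, 2, 2, 2, 2],
   [0, 2, 0, 2, 0, 2, 0, 2],
   [1, 1, 3, 0, 0, 2],
   [1, 3, 0, 2, 1, 3, 0, 2, 1, 3, 0, 2]]

def W : List (List Nat) := [[0],
   [1]]

noncomputable def P : Par := ⟨T, (nat_lit 4), (nat_lit 15), (nat_lit 96), (nat_lit 16), (nat_lit 65535), (nat_lit 7), (nat_lit 127), (nat_lit 4), (nat_lit 76), (nat_lit 80), (nat_lit 0xa410c01), RT⟩

noncomputable def J0 : List Nat := [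
  nat_lit 0x10c40001000841008401384001000841484001008481030841008401384001000841028401484001000841484001008481,
  nat_lit 0x30841008401384001000841008481000841308401484001700841028401484001000841484001028481500841808401,
  nat_lit 0x384001384001384801020841008481030841008401030841008481002841028401384101003841000841308481503841,
  nat_lit 0x7408410284016584014850810008414840013848010038413840c13840c1628401503841041041041041041041041041041041]

theorem c0 : chk T (nat_lit 4) (nat_lit 15) (nat_lit 96) (nat_lit 16) (nat_lit 65535) (nat_lit 7) (nat_lit 127) (nat_lit 4) (nat_lit 76) (nat_lit 80) (nat_lit 0xa410c01) (nat_lit 4) (nat_lit 15) RT (nat_lit 16) J0 (nat_lit 16) = true := by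
  decide +kernel

theorem r0 : P.RowsOK 16 80 := chk_sound P _ _ _ J0 _ _ (by decide +kernel) c0

theorem index.{u} : IndexLe.{u} 4 R W 60 :=
  indexLe_of_cert P HT (by decide +kernel)
    (show P.RowsOK 16 80 from r0)

end Tk1

theorem upK_1 : CardLe (genW s [[0], [1], [2], [3]]) 480 :=
  CardLe.tc (V' := [[0], [1]]) (n := 60) (m := 8) [0, 1, 2, 3] Tk1.index pres.sat (by decide +kernel) (by decide +kernel) (by decide +kernel) upK_2

theorem upK : CardLe (genW s [[0], [1], [2], [3], [4], [5], [10], [11], [12], [13], [14], [15], [16], [17], [18], [19]]) 1500000 :=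
  CardLe.tc (V' := [[0], [1], [2], [3]]) (n := 3125) (m := 480) [0, 1, 2, 3, 4, 5, 10, 11, 12, 13, 14, 15, 16, 17, 18, 19] Tk0.index pres.sat (by decide +kernel) (by decide +kernel) (by decide +kernel) upK_1

theorem up : CardLe (gen s 20) 5859000000 := upK.step (Top.index _ s pres.sat)

end Cfsg.Agent.Comp.G25
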